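import Groth.Agent.CohC3.Completion
import Groth.Agent.CohC3.LimitSys
import Groth.Agent.CohC3.ModIdeal
import Groth.Agent.BlowUpBasics.AffineBase
import Mathlib.CategoryTheory.Equivalence

/-!
Coherent formal modules for two ideals with the same zero locus form equivalent categories.
-/

set_option autoImplicit false
set_option backward.isDefEq.respectTransparency false

universe u

open CategoryTheory CategoryTheory.Limits AlgebraicGeometry TopologicalSpace Opposite
open Groth.CohC3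

namespace Groth.Misc7.FormalChangeIdeal

variable {A : Type u} [CommRing A] {X : Scheme.{u}} [X.Over (Spec (CommRingCat.of A))]

theorem baseApp_eq_phi (U : X.Opens) :
    (baseApp X U : A →+* Γ(X, U)) = Groth.BlowUpBasics.phi (X ↘ Spec (CommRingCat.of A)) U := by
  rfl

/-- On an affine open the ideal with larger zero locus lies in the radical of the other. -/
theorem map_le_radical {I J : Ideal A}
    (h : (fun x : X => (X ↘ Spec (CommRingCat.of A)) x) ⁻¹' PrimeSpectrum.zeroLocus (J : Set A) ⊆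
      (fun x : X => (X ↘ Spec (CommRingCat.of A)) x) ⁻¹' PrimeSpectrum.zeroLocus (I : Set A))
    {U : X.Opens} (hU : IsAffineOpen U) :
    I.map (baseApp X U) ≤ (J.map (baseApp X U)).radical := by
  rw [Ideal.radical_eq_sInf, Ideal.map_le_iff_le_comap]
  intro a ha
  rw [Ideal.mem_comap, Ideal.mem_sInf]
  rintro q ⟨hJq, hq⟩
  let Q : PrimeSpectrum Γ(X, U) := ⟨q, hq⟩
  have hpt : (X ↘ Spec (CommRingCat.of A)) (hU.fromSpec Q) = PrimeSpectrum.comap (baseApp X U) Q := by
    rw [← Scheme.Hom.comp_apply, Groth.BlowUpBasics.fromSpec_comp, baseApp_eq_phi]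
    rfl
  have hx : hU.fromSpec Q ∈ (fun x : X => (X ↘ Spec (CommRingCat.of A)) x) ⁻¹'
      PrimeSpectrum.zeroLocus (J : Set A) := by
    show (J : Set A) ⊆ ((X ↘ Spec (CommRingCat.of A)) (hU.fromSpec Q)).asIdeal
    rw [hpt]
    exact Ideal.map_le_iff_le_comap.1 hJq
  have h2 : (I : Set A) ⊆ ((X ↘ Spec (CommRingCat.of A)) (hU.fromSpec Q)).asIdeal := h hx
  rw [hpt] at h2
  exact h2 ha

/-- A uniform exponent: modules killed by `J ^ n` are killed by `I ^ (c * n)`. -/
theorem exists_exponent [IsNoetherian X] {I J : Ideal A}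
    (h : (fun x : X => (X ↘ Spec (CommRingCat.of A)) x) ⁻¹' PrimeSpectrum.zeroLocus (J : Set A) ⊆
      (fun x : X => (X ↘ Spec (CommRingCat.of A)) x) ⁻¹' PrimeSpectrum.zeroLocus (I : Set A)) :
    ∃ c : ℕ, 1 ≤ c ∧ ∀ (n : ℕ) (M : X.Modules), Formal.KilledBy (J ^ n) M →
      Formal.KilledBy (I ^ (c * n)) M := by
  classical
  have hW : ∀ x : X, ∃ (W : X.Opens) (c : ℕ), x ∈ W ∧ (I.map (baseApp X W)) ^ c ≤ J.map (baseApp X W) := by
    intro x
    obtain ⟨_, ⟨W, hW, rfl⟩, hxW, -⟩ :=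
      X.isBasis_affineOpens.exists_subset_of_mem_open (Set.mem_univ x) isOpen_univ
    have : IsNoetherianRing Γ(X, W) := IsLocallyNoetherian.component_noetherian ⟨W, hW⟩
    obtain ⟨c, hc⟩ := Ideal.exists_pow_le_of_le_radical_of_fg_radical (map_le_radical h hW)
      (IsNoetherian.noetherian _)
    exact ⟨W, c, hxW, hc⟩
  choose W c hxW hc using hW
  obtain ⟨s, hs⟩ := isCompact_univ.elim_finite_subcover (fun x => (W x : Set X))
    (fun x => (W x).isOpen) (fun x _ => Set.mem_iUnion.mpr ⟨x, hxW x⟩)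
  refine ⟨s.sup c + 1, Nat.succ_le_succ (Nat.zero_le _), fun n M hM a ha => ?_⟩
  refine CohTwo.hom_ext_app fun U t => ?_
  refine CohTwo.eq_of_local M _ _ fun x hx => ?_
  obtain ⟨y, hys, hy⟩ := Set.mem_iUnion₂.mp (hs (Set.mem_univ x))
  refine ⟨U ⊓ W y, inf_le_left, ⟨hx, hy⟩, ?_⟩
  show CohTwo.res M _ (baseApp X U a • t) = CohTwo.res M _ (0 : Γ(M, U))
  rw [map_zero, CohTwo.res_smul, baseApp_resR]
  set t' := CohTwo.res M (inf_le_left : U ⊓ W y ≤ U) t
  have hmem : baseApp X (U ⊓ W y) a ∈ (J ^ n).map (baseApp X (U ⊓ W y)) := by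
    have h1 : baseApp X (W y) a ∈ (J ^ n).map (baseApp X (W y)) := by
      rw [Ideal.map_pow]
      have h2 : baseApp X (W y) a ∈ ((I.map (baseApp X (W y))) ^ c y) ^ n := by
        rw [← pow_mul]
        refine Ideal.pow_le_pow_right ?_ (Ideal.map_pow (baseApp X (W y)) I _ ▸ Ideal.mem_map_of_mem _ ha)
        exact Nat.mul_le_mul_right n (Nat.le_succ_of_le (Finset.le_sup hys))
      exact pow_le_pow_left' (hc y) n h2
    have h3 := Ideal.mem_map_of_mem (CohTwo.resR X (inf_le_right : U ⊓ W y ≤ W y)) h1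
    rw [Ideal.map_map, baseApp_resR] at h3
    convert h3 using 2
    exact RingHom.ext fun b => (baseApp_resR inf_le_right b).symm
  have key := app_eq_zero_of_mem_smul (𝟙 M) ((killedBy_iff_le (J ^ n) M).1 hM)
    (Submodule.smul_mem_smul hmem (Submodule.mem_top (x := t')))
  exact key

/-- Quotients by finer ideals compose. -/
theorem isQuot_comp {K K' : Ideal A} (hS : ∀ M : X.Modules, Formal.KilledBy K M → Formal.KilledBy K' M)
    {M G G' : X.Modules} {p : M ⟶ G} {q : G ⟶ G'} (hp : IsQuot K' p) (hq : IsQuot K q) :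
    IsQuot K (p ≫ q) where
  le_ann := hq.le_ann.trans (annHom_le_precomp p q)
  epi := have := hp.epi; have := hq.epi; inferInstance
  desc φ hφ := by
    obtain ⟨ψ₀, hψ₀⟩ := (isQuot_cokernel K _).desc φ hφ
    obtain ⟨ψ, rfl⟩ := hp.desc φ (hψ₀ ▸
      (le_annHom_of_killedBy (hS _ (isQuot_cokernel K _).killedBy) _).trans (annHom_le_comp _ ψ₀))
    have := hp.epi
    have hle : K ≤ annHom ψ := fun a ha => by
      have := hφ ha
      rw [mem_annHom, ← Category.assoc, ← smulMod_naturality, Category.assoc] at this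
      rw [mem_annHom, ← cancel_epi p, comp_zero]
      exact this
    obtain ⟨χ, rfl⟩ := hq.desc ψ hle
    exact ⟨χ, Category.assoc _ _ _⟩

variable {I J : Ideal A} {c : ℕ}

omit [X.Over (Spec (CommRingCat.of A))] in
theorem square {M M' Q Q' R R' P P' : X.Modules} {p₁ : M ⟶ Q} {p₂ : Q ⟶ R} {p₁' : M' ⟶ Q'} {p₂' : Q' ⟶ R'}
    {b : R ⟶ R'} {a' : Q ⟶ Q'} {a : M ⟶ M'} {t : R ⟶ P} {t' : R' ⟶ P'} {s : M ⟶ P} {s' : M' ⟶ P'}
    {g : P ⟶ P'} (h₂ : p₂ ≫ b = a' ≫ p₂') (h₁ : p₁ ≫ a' = a ≫ p₁') (ht' : (p₁' ≫ p₂') ≫ t' = s')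
    (ht : (p₁ ≫ p₂) ≫ t = s) (hs : a ≫ s' = s ≫ g) : (p₁ ≫ p₂) ≫ b ≫ t' = (p₁ ≫ p₂) ≫ t ≫ g := by
  rw [← Category.assoc (p₁ ≫ p₂) t g, ht, ← hs, ← ht', Category.assoc p₁ p₂, ← Category.assoc p₂ b, h₂,
    Category.assoc a', ← Category.assoc p₁ a', h₁, Category.assoc a, Category.assoc p₁']

/-- The system for `J` attached to one for `I`. -/
noncomputable def sys (J : Ideal A) (c : ℕ) (G : ℕᵒᵖ ⥤ X.Modules) : ℕᵒᵖ ⥤ X.Modules where
  obj m := Formal.modPow J (m.unop + 1) (G.obj (op (c * (m.unop + 1))))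
  map {a b} f := modPowDesc J (a.unop + 1)
    (sysMap G (Nat.mul_le_mul_left c (Nat.succ_le_succ (leOfHom f.unop))) ≫ Formal.modPowπ J (b.unop + 1) _)
    ((Ideal.pow_le_pow_right (Nat.succ_le_succ (leOfHom f.unop))).trans
      ((isQuot_modPowπ J (b.unop + 1) _).le_ann.trans (annHom_le_precomp _ _)))
  map_id a := by
    refine (isQuot_modPowπ J (a.unop + 1) _).hom_ext ?_
    rw [modPowπ_desc, sysMap_refl, Category.id_comp, Category.comp_id]
  map_comp {a b d} f g := by
    refine (isQuot_modPowπ J (a.unop + 1) _).hom_ext ?_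
    rw [modPowπ_desc, modPowπ_desc_assoc, Category.assoc, modPowπ_desc, ← Category.assoc, sysMap_comp]

theorem π_sys_map (G : ℕᵒᵖ ⥤ X.Modules) {i j : ℕ} (h : i ≤ j) :
    Formal.modPowπ J (j + 1) _ ≫ sysMap (sys J c G) h =
      sysMap G (Nat.mul_le_mul_left c (Nat.succ_le_succ h)) ≫ Formal.modPowπ J (i + 1) _ :=
  modPowπ_desc J (j + 1) _ ((Ideal.pow_le_pow_right (Nat.succ_le_succ h)).trans
    ((isQuot_modPowπ J (i + 1) _).le_ann.trans (annHom_le_precomp _ _)))

theorem isCohFormal_sys (hc : ∀ (n : ℕ) (M : X.Modules), Formal.KilledBy (J ^ n) M →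
      Formal.KilledBy (I ^ (c * n)) M) {G : ℕᵒᵖ ⥤ X.Modules} (hG : Formal.IsCohFormal I G) :
    Formal.IsCohFormal J (sys J c G) := by
  refine ⟨fun n => isCoh_modPow' (hG.1 _) J _, fun n => (isQuot_modPowπ J (n + 1) _).killedBy,
    fun n => IsQuot.isIso_desc ?_⟩
  refine (isQuot_modPowπ J (n + 1 + 1) _).of_comp (J := J ^ (n + 1)) ?_
  rw [π_sys_map]
  exact isQuot_comp (fun M hM a ha => hc _ M hM a (Ideal.pow_le_pow_right (Nat.le_succ _) ha))
    ((isSys_of_isCohFormal hG).isQuot _) (isQuot_modPowπ J (n + 1) _)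

/-- The change of ideal functor. -/
noncomputable def change (hc : ∀ (n : ℕ) (M : X.Modules), Formal.KilledBy (J ^ n) M →
      Formal.KilledBy (I ^ (c * n)) M) :
    Formal2.CohFormalCat I X ⥤ Formal2.CohFormalCat J X where
  obj G := ⟨sys J c G.obj, isCohFormal_sys hc G.property⟩
  map {G H} φ := ObjectProperty.homMk
    { app := fun m => modPowDesc J (m.unop + 1) (φ.hom.app _ ≫ Formal.modPowπ J (m.unop + 1) _)
        ((isQuot_modPowπ J (m.unop + 1) _).le_ann.trans (annHom_le_precomp _ _))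
      naturality := fun a b f => by
        refine (isQuot_modPowπ J (a.unop + 1) _).hom_ext ?_
        simp only [sys, modPowπ_desc_assoc, Category.assoc, modPowπ_desc]
        exact φ.hom.naturality_assoc _ _ }
  map_id G := by
    refine ObjectProperty.hom_ext _ (NatTrans.ext (funext fun m => ?_))
    refine (isQuot_modPowπ J (m.unop + 1) _).hom_ext ?_
    refine (modPowπ_desc J (m.unop + 1) _ ((isQuot_modPowπ J (m.unop + 1) _).le_ann.trans (annHom_le_precomp _ _))).trans ?_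
    exact (Category.id_comp _).trans (Category.comp_id _).symm
  map_comp {G H K} φ ψ := by
    refine ObjectProperty.hom_ext _ (NatTrans.ext (funext fun m => ?_))
    refine (isQuot_modPowπ J (m.unop + 1) _).hom_ext ?_
    simp only [ObjectProperty.homMk_hom, ObjectProperty.FullSubcategory.comp_hom, NatTrans.comp_app,
      modPowπ_desc, modPowπ_desc_assoc, Category.assoc]

theorem π_change_map (hc : ∀ (n : ℕ) (M : X.Modules), Formal.KilledBy (J ^ n) M →
      Formal.KilledBy (I ^ (c * n)) M) {G H : Formal2.CohFormalCat I X} (φ : G ⟶ H) (m : ℕ) :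
    Formal.modPowπ J (m + 1) _ ≫ ((change hc).map φ).hom.app (op m) =
      φ.hom.app (op (c * (m + 1))) ≫ Formal.modPowπ J (m + 1) _ :=
  modPowπ_desc J (m + 1) _ ((isQuot_modPowπ J (m + 1) _).le_ann.trans (annHom_le_precomp _ _))

section Unit

variable {d : ℕ} (hd0 : 1 ≤ d) (hc0 : 1 ≤ c)
  (hc : ∀ (n : ℕ) (M : X.Modules), Formal.KilledBy (J ^ n) M → Formal.KilledBy (I ^ (c * n)) M)
  (hd : ∀ (n : ℕ) (M : X.Modules), Formal.KilledBy (I ^ n) M → Formal.KilledBy (J ^ (d * n)) M)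

include hd0 hc0 in
theorem le_bound (n : ℕ) : n ≤ c * (d * (n + 1) + 1) :=
  le_trans (Nat.le_succ n) (le_trans (Nat.le_mul_of_pos_left _ hd0)
    (le_trans (Nat.le_succ _) (Nat.le_mul_of_pos_left _ hc0)))

include hd in
/-- The two projections out of a high stage. -/
theorem isQuot_twice (G : Formal2.CohFormalCat I X) (n : ℕ) :
    IsQuot (I ^ (n + 1))
      (Formal.modPowπ J (d * (n + 1) + 1) (G.obj.obj (op (c * (d * (n + 1) + 1)))) ≫
        Formal.modPowπ I (n + 1) _) :=
  isQuot_comp (fun M hM a ha => hd _ M hM a (Ideal.pow_le_pow_right (Nat.le_succ _) ha))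
    (isQuot_modPowπ J _ _) (isQuot_modPowπ I (n + 1) _)

/-- Changing the ideal twice gives back a formal module. -/
noncomputable def twiceApp (G : Formal2.CohFormalCat I X) (n : ℕ) :
    ((change hd).obj ((change hc).obj G)).obj.obj (op n) ⟶ G.obj.obj (op n) :=
  modPowDesc I (n + 1)
    (modPowDesc J (d * (n + 1) + 1) (sysMap G.obj (le_bound hd0 hc0 n))
      ((le_annHom_of_killedBy (fun a ha => hd _ _ (G.property.2.1 n) a
        (Ideal.pow_le_pow_right (Nat.le_succ _) ha)) _)))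
    (le_annHom_of_killedBy (G.property.2.1 n) _)

theorem π_twiceApp (G : Formal2.CohFormalCat I X) (n : ℕ) :
    (Formal.modPowπ J (d * (n + 1) + 1) (G.obj.obj (op (c * (d * (n + 1) + 1)))) ≫
        Formal.modPowπ I (n + 1) _) ≫ twiceApp hd0 hc0 hc hd G n =
      sysMap G.obj (le_bound hd0 hc0 n) := by
  rw [Category.assoc]
  erw [modPowπ_desc, modPowπ_desc]

/-- The comparison natural transformation. -/
noncomputable def twiceHom : change hc ⋙ change hd ⟶ 𝟭 (Formal2.CohFormalCat I X) where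
  app G := ObjectProperty.homMk
    { app := fun m => twiceApp hd0 hc0 hc hd G m.unop
      naturality := fun a b f => by
        obtain ⟨i⟩ := a; obtain ⟨j⟩ := b
        obtain ⟨hji, rfl⟩ : ∃ h : j ≤ i, f = (homOfLE h).op :=
          ⟨leOfHom f.unop, Quiver.Hom.unop_inj (Subsingleton.elim _ _)⟩
        refine (isQuot_twice hd G i).hom_ext ?_
        change _ ≫ sysMap (sys I d (sys J c G.obj)) _ ≫ twiceApp hd0 hc0 hc hd G j =
          _ ≫ twiceApp hd0 hc0 hc hd G i ≫ sysMap G.obj _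
        exact square (π_sys_map (J := I) (c := d) (sys J c G.obj) hji)
          (π_sys_map (J := J) (c := c) G.obj _) (π_twiceApp hd0 hc0 hc hd G j)
          (π_twiceApp hd0 hc0 hc hd G i) ((sysMap_comp _ _ _).trans (sysMap_comp _ _ _).symm) }
  naturality G H φ := by
    refine ObjectProperty.hom_ext _ (NatTrans.ext (funext fun m => ?_))
    obtain ⟨n⟩ := m
    refine (isQuot_twice hd G n).hom_ext ?_
    change _ ≫ ((change hd).map ((change hc).map φ)).hom.app (op n) ≫ twiceApp hd0 hc0 hc hd H n =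
      _ ≫ twiceApp hd0 hc0 hc hd G n ≫ φ.hom.app (op n)
    exact square (π_change_map hd ((change hc).map φ) n) (π_change_map hc φ _)
      (π_twiceApp hd0 hc0 hc hd H n) (π_twiceApp hd0 hc0 hc hd G n) (φ.hom.naturality _).symm

theorem isIso_twiceApp (G : Formal2.CohFormalCat I X) (n : ℕ) :
    IsIso (twiceApp hd0 hc0 hc hd G n) := by
  have h1 := isQuot_twice (c := c) hd G n
  have h2 := (isSys_of_isCohFormal G.property).isQuot (le_bound hd0 hc0 n)
  obtain ⟨ψ, hψ⟩ := h2.desc _ h1.le_ann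
  exact ⟨ψ, h1.hom_ext ((Category.assoc _ _ _).symm.trans ((congrArg (· ≫ ψ) (π_twiceApp hd0 hc0 hc hd G n)).trans (hψ.trans (Category.comp_id _).symm))),
    h2.hom_ext ((Category.assoc _ _ _).symm.trans ((congrArg (· ≫ twiceApp hd0 hc0 hc hd G n) hψ).trans ((π_twiceApp hd0 hc0 hc hd G n).trans (Category.comp_id _).symm)))⟩

theorem isIso_twiceHom : IsIso (twiceHom hd0 hc0 hc hd) := by
  have : ∀ G, IsIso ((twiceHom hd0 hc0 hc hd).app G) := fun G => by
    have hcomp : ∀ m : ℕᵒᵖ, IsIso (((twiceHom hd0 hc0 hc hd).app G).hom.app m) :=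
      fun m => isIso_twiceApp hd0 hc0 hc hd G m.unop
    have : IsIso ((ObjectProperty.ι _).map ((twiceHom hd0 hc0 hc hd).app G)) :=
      NatIso.isIso_of_isIso_app ((twiceHom hd0 hc0 hc hd).app G).hom
    exact isIso_of_fully_faithful (ObjectProperty.ι _) _
  exact NatIso.isIso_of_isIso_app _

end Unit

theorem nonempty_equivalence [IsNoetherian X] (I J : Ideal A)
    (hV : (fun x : X => (X ↘ Spec (CommRingCat.of A)) x) ⁻¹' PrimeSpectrum.zeroLocus (I : Set A) =
      (fun x : X => (X ↘ Spec (CommRingCat.of A)) x) ⁻¹' PrimeSpectrum.zeroLocus (J : Set A)) :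
    Nonempty (Formal2.CohFormalCat I X ≌ Formal2.CohFormalCat J X) := by
  obtain ⟨c, hc0, hc⟩ := exists_exponent (I := I) (J := J) hV.ge
  obtain ⟨d, hd0, hd⟩ := exists_exponent (I := J) (J := I) hV.le
  have := isIso_twiceHom hd0 hc0 hc hd
  have := isIso_twiceHom hc0 hd0 hd hc
  exact ⟨CategoryTheory.Equivalence.mk (change hc) (change hd) (asIso (twiceHom hd0 hc0 hc hd)).symm
    (asIso (twiceHom hc0 hd0 hd hc))⟩

end Groth.Misc7.FormalChangeIdeal
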